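import Mathlib

/-!
# Cokernels of a line inside a free module of rank two
-/

set_option autoImplicit false
universe u

open scoped TensorProduct

namespace Groth.RankOneCok

variable {A : Type u} [CommRing A] [IsDomain A] {M Q : Type u} [AddCommGroup M] [Module A M]
  [AddCommGroup Q] [Module A Q]

theorem not_free_localized (g : M →ₗ[A] Q) (hg : Function.Surjective g) (b : Module.Basis (Fin 2) A M) (v : M)
    (hv : v ≠ 0) (hker : LinearMap.ker g = Submodule.span A {v}) (P : Ideal A) [P.IsPrime]
    (h0 : b.repr v 0 ∈ P) (h1 : b.repr v 1 ∈ P) :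
    ¬ Module.Free (Localization.AtPrime P) (LocalizedModule P.primeCompl Q) := by
  intro hfree
  let S := P.primeCompl
  let gl := LocalizedModule.map S g
  have hgs : Function.Surjective gl := LocalizedModule.map_surjective S g hg
  haveI : Module.Projective (Localization.AtPrime P) (LocalizedModule S Q) := Module.Projective.of_free
  obtain ⟨σ, hσ⟩ := Module.projective_lifting_property gl LinearMap.id hgs
  have hσ' : ∀ y, gl (σ y) = y := fun y => LinearMap.congr_fun hσ y
  let mk : M →ₗ[A] LocalizedModule S M := LocalizedModule.mkLinearMap S M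
  let fA : A →ₗ[A] M := LinearMap.toSpanSingleton A M v
  have hex : Function.Exact (LocalizedModule.map S fA) gl := LocalizedModule.map_exact S fA g
    (LinearMap.exact_iff.2 (by rw [hker]; exact (LinearMap.range_toSpanSingleton v).symm))
  have hrange : ∀ z, gl z = 0 → ∃ c : Localization.AtPrime P, z = c • mk v := by
    intro z hz
    obtain ⟨y, rfl⟩ := (hex z).1 hz
    induction y using LocalizedModule.induction_on with
    | _ a s =>
      refine ⟨Localization.mk a s, ?_⟩
      rw [LocalizedModule.map_mk, LocalizedModule.mkLinearMap_apply, LocalizedModule.mk_smul_mk, mul_one]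
      rfl
  have hs : ∀ w, gl (w - σ (gl w)) = 0 := fun w => by rw [map_sub, hσ', sub_self]
  obtain ⟨c0, hc0⟩ := hrange _ (hs (mk (b 0)))
  obtain ⟨c1, hc1⟩ := hrange _ (hs (mk (b 1)))
  have hgv : g v = 0 := LinearMap.mem_ker.1 (hker ▸ Submodule.mem_span_singleton_self v)
  have hglv : gl (mk v) = 0 := by
    rw [LocalizedModule.mkLinearMap_apply, LocalizedModule.map_mk, hgv]
    exact LocalizedModule.zero_mk 1
  let s : LocalizedModule S M →ₗ[Localization.AtPrime P] LocalizedModule S M := LinearMap.id - σ ∘ₗ gl
  have hsv : s (mk v) = mk v := by simp [s, hglv]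
  let a0 := algebraMap A (Localization.AtPrime P) (b.repr v 0)
  let a1 := algebraMap A (Localization.AtPrime P) (b.repr v 1)
  have hsum : mk v = a0 • mk (b 0) + a1 • mk (b 1) := by
    conv_lhs => rw [← b.sum_repr v]
    rw [map_sum, Fin.sum_univ_two, map_smul, map_smul, algebraMap_smul, algebraMap_smul]
  have hfix : mk v = (a0 * c0 + a1 * c1) • mk v := by
    conv_lhs => rw [← hsv, hsum]
    rw [map_add, map_smul, map_smul, add_smul, mul_smul, mul_smul, ← hc0, ← hc1]
    rfl
  have hmem : a0 * c0 + a1 * c1 ∈ IsLocalRing.maximalIdeal (Localization.AtPrime P) :=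
    add_mem (Ideal.mul_mem_right _ _ ((IsLocalization.AtPrime.to_map_mem_maximal_iff _ P _).2 h0))
      (Ideal.mul_mem_right _ _ ((IsLocalization.AtPrime.to_map_mem_maximal_iff _ P _).2 h1))
  have hu : IsUnit (1 - (a0 * c0 + a1 * c1)) := IsLocalRing.isUnit_one_sub_self_of_mem_nonunits _ hmem
  have h2 : (1 - (a0 * c0 + a1 * c1)) • mk v = 0 := by rw [sub_smul, one_smul, sub_eq_zero]; exact hfix
  have h3 : mk v = 0 := hu.smul_eq_zero.1 h2
  rw [LocalizedModule.mkLinearMap_apply, ← LocalizedModule.zero_mk (S := S) (1 : S), LocalizedModule.mk_eq] at h3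
  obtain ⟨t, ht⟩ := h3
  haveI : Module.Free A M := .of_basis b
  simp only [one_smul, smul_zero] at ht
  have ht' : ((t : A) • v) = 0 := ht
  exact hv ((smul_eq_zero.1 ht').resolve_left fun h => t.2 (h ▸ P.zero_mem))

theorem free_of_isUnit [IsLocalRing A] [Module.Finite A Q] (g : M →ₗ[A] Q) (hg : Function.Surjective g)
    (b : Module.Basis (Fin 2) A M) (v : M) (hker : LinearMap.ker g = Submodule.span A {v}) (i : Fin 2)
    (hu : IsUnit (b.repr v i)) : Module.Free A Q := by
  haveI : Module.Free A M := .of_basis b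
  obtain ⟨c, hc⟩ := hu.exists_left_inv
  let φ : M →ₗ[A] A := c • b.coord i
  have hφ : φ v = 1 := by show c * b.repr v i = 1; exact hc
  let π : M →ₗ[A] M := LinearMap.id - φ.smulRight v
  have hπ : LinearMap.ker g ≤ LinearMap.ker π := by
    rw [hker, Submodule.span_le, Set.singleton_subset_iff]
    simp [π, hφ]
  have hgπ : ∀ x, g (π x) = g x := fun x => by
    have : g v = 0 := LinearMap.mem_ker.1 (hker ▸ Submodule.mem_span_singleton_self v)
    simp [π, this]
  let j : Q →ₗ[A] M := (LinearMap.ker g).liftQ π hπ ∘ₗ (LinearMap.quotKerEquivOfSurjective g hg).symm.toLinearMap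
  have hj : g ∘ₗ j = LinearMap.id := by
    refine LinearMap.ext fun q => ?_
    obtain ⟨x, rfl⟩ := hg q
    have : (LinearMap.quotKerEquivOfSurjective g hg).symm (g x) = Submodule.Quotient.mk x := by
      rw [LinearEquiv.symm_apply_eq]; rfl
    simp only [j, LinearMap.comp_apply, LinearEquiv.coe_toLinearMap, this, Submodule.liftQ_apply,
      LinearMap.id_apply, hgπ]
  haveI : Module.Projective A Q := Module.Projective.of_split j g hj
  exact Module.free_of_flat_of_isLocalRing

end Groth.RankOneCok
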